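import Mathlib
import Cfsg.Agent.H596.FldFacts
import Cfsg.Agent.H967.CopMat

/-!
# Field automorphisms of matrix groups with a split torus of rank at least two (helper834, for S4761)

`moved_fieldAut` : `G` a matrix group over `F` stable under `σ`, `T ≤ G` a `σ`-invariant subgroup of diagonal matrices,
`s` a prime not dividing `|G : T|` and `q₀ - 1`, `v_s(|T|) > v_s(q - 1)`, `U ≠ 1` an `r`-group normalised by `T`:
then the field automorphism `σ` moves the classes of two elements of different orders.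
-/

set_option autoImplicit false

namespace Cfsg.Agent.H834.Mov

open Cfsg.Agent.H967.CopMat Cfsg.Agent.H596.Fld
open scoped MatrixGroups

variable {ι : Type*} [Fintype ι] [DecidableEq ι] {F : Type*} [Field F]

/-- a diagonal matrix -/
theorem diag_pow {g : GL ι F} (h : ∀ i j, i ≠ j → (g : Matrix ι ι F) i j = 0) (n : ℕ) :
    ((g ^ n : GL ι F) : Matrix ι ι F) = Matrix.diagonal fun i => ((g : Matrix ι ι F) i i) ^ n := by
  have h1 : (g : Matrix ι ι F) = Matrix.diagonal fun i => (g : Matrix ι ι F) i i := by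
    ext i j
    by_cases hij : i = j
    · subst hij; rw [Matrix.diagonal_apply_eq]
    · rw [h i j hij, Matrix.diagonal_apply_ne _ hij]
  conv_lhs => rw [Units.val_pow_eq_pow_val, h1, Matrix.diagonal_pow]
  rfl

theorem diag_ne_zero {g : GL ι F} (h : ∀ i j, i ≠ j → (g : Matrix ι ι F) i j = 0) (i : ι) :
    (g : Matrix ι ι F) i i ≠ 0 := by
  intro h0
  have h1 : (g : Matrix ι ι F) * ((g⁻¹ : GL ι F) : Matrix ι ι F) = 1 := by
    rw [← Units.val_mul, mul_inv_cancel, Units.val_one]
  have h2 := congrFun (congrFun h1 i) i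
  rw [Matrix.mul_apply, Matrix.one_apply_eq, Finset.sum_eq_zero] at h2
  · exact zero_ne_one h2
  · intro j _
    by_cases hij : i = j
    · subst hij; rw [h0, zero_mul]
    · rw [h i j hij, zero_mul]

theorem diag_pow_card [Finite F] {g : GL ι F} (h : ∀ i j, i ≠ j → (g : Matrix ι ι F) i j = 0) :
    g ^ (Nat.card F - 1) = 1 := by
  have := Fintype.ofFinite F
  refine Units.ext ?_
  rw [diag_pow h, Units.val_one, ← Matrix.diagonal_one]
  congr 1
  funext i
  rw [Nat.card_eq_fintype_card]
  exact FiniteField.pow_card_sub_one_eq_one _ (diag_ne_zero h i)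

theorem diag_comm {g k : GL ι F} (h : ∀ i j, i ≠ j → (g : Matrix ι ι F) i j = 0)
    (h' : ∀ i j, i ≠ j → (k : Matrix ι ι F) i j = 0) : g * k = k * g := by
  have e : ∀ {g : GL ι F}, (∀ i j, i ≠ j → (g : Matrix ι ι F) i j = 0) →
      (g : Matrix ι ι F) = Matrix.diagonal fun i => (g : Matrix ι ι F) i i := by
    intro g h
    ext i j
    by_cases hij : i = j
    · subst hij; rw [Matrix.diagonal_apply_eq]
    · rw [h i j hij, Matrix.diagonal_apply_ne _ hij]
  refine Units.ext ?_
  rw [Units.val_mul, Units.val_mul, e h, e h', Matrix.diagonal_mul_diagonal, Matrix.diagonal_mul_diagonal]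
  congr 1
  funext i
  exact mul_comm _ _

/-- **The criterion.** -/
theorem moved_fieldAut [Finite F] {G : Subgroup (GL ι F)} (hG : Stab G) {σ : F ≃+* F}
    (ho : orderOf (fieldAut hG σ) = orderOf σ) (hp : (orderOf σ).Prime) (hd : ¬ orderOf σ ∣ Nat.card ↥G)
    {s r : ℕ} [hs : Fact s.Prime] [hr : Fact r.Prime] (hsq : ¬ s ∣ Nat.card ↥(Fx σ) - 1) (hsr : s ≠ r)
    {T U : Subgroup ↥G}
    (hT : ∀ x ∈ T, ∀ i j, i ≠ j → ((x : GL ι F) : Matrix ι ι F) i j = 0)
    (hTσ : ∀ x ∈ T, fieldAut hG σ x ∈ T) (hi : ¬ s ∣ T.index)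
    (hv : ¬ (Nat.card T).factorization s ≤ (Nat.card F - 1).factorization s)
    (hU : IsPGroup r U) (hU1 : U ≠ ⊥) (hN : T ≤ Subgroup.normalizer (U : Set ↥G)) : Moved (fieldAut hG σ) := by
  classical
  have hfin : Finite (GL ι F) := inferInstance
  have hfin2 : Finite ↥G := inferInstance
  have hq1 : 1 < Nat.card F := Finite.one_lt_card
  have hq0 : 1 < Nat.card ↥(Fx σ) := Finite.one_lt_card
  have hf : ¬ s ∣ Nat.card (fx (fieldAut hG σ)) := by
    refine not_dvd_of_torus (by rw [ho]; exact hp) (by rw [ho]; exact hd) hTσ hi ?_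
    intro x hx hxo hxf
    have h1 := (fixed_iff hG σ x).1 hxf
    have h2 : x = 1 := by
      apply Subtype.ext
      refine Units.ext ?_
      have hxs : (x : GL ι F) ^ s = 1 := by
        have := congrArg Subtype.val (pow_orderOf_eq_one x)
        rwa [hxo] at this
      have h3 := diag_pow (hT x hx) s
      rw [hxs, Units.val_one, ← Matrix.diagonal_one] at h3
      have h4 := Matrix.diagonal_injective h3
      ext i j
      by_cases hij : i = j
      · subst hij
        show ((x : GL ι F) : Matrix ι ι F) i i = (1 : Matrix ι ι F) i i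
        rw [Matrix.one_apply_eq]
        have h5 : (((x : GL ι F) : Matrix ι ι F) i i) ^ s = 1 := (congrFun h4 i).symm
        have h6 : (((x : GL ι F) : Matrix ι ι F) i i) ^ (Nat.card ↥(Fx σ) - 1) = 1 := by
          have := Fintype.ofFinite ↥(Fx σ)
          have h7 := FiniteField.pow_card_sub_one_eq_one (K := ↥(Fx σ)) ⟨_, h1 i i⟩ (by
            intro h
            exact diag_ne_zero (hT x hx) i (congrArg Subtype.val h))
          rw [← Nat.card_eq_fintype_card] at h7
          exact congrArg Subtype.val h7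
        have h8 : s.Coprime (Nat.card ↥(Fx σ) - 1) := (hs.out.coprime_iff_not_dvd).2 hsq
        have h9 := orderOf_dvd_of_pow_eq_one h5
        have h10 := orderOf_dvd_of_pow_eq_one h6
        have h11 : orderOf (((x : GL ι F) : Matrix ι ι F) i i) ∣ 1 := by
          rw [← h8]; exact Nat.dvd_gcd h9 h10
        exact orderOf_eq_one_iff.1 (Nat.dvd_one.1 h11)
      · show ((x : GL ι F) : Matrix ι ι F) i j = (1 : Matrix ι ι F) i j
        rw [hT x hx i j hij, Matrix.one_apply_ne hij]
    rw [h2, orderOf_one] at hxo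
    exact hs.out.one_lt.ne hxo
  -- the Sylow `s`-subgroup of `T`
  obtain ⟨P⟩ : Nonempty (Sylow s ↥T) := inferInstance
  set A : Subgroup ↥G := (P : Subgroup ↥T).map T.subtype with hA
  have hAT : A ≤ T := Subgroup.map_subtype_le _
  refine moved_of_rank_two (s := s) (r := r) (A := A) (U := U) (by rw [ho]; exact hp) (by rw [ho]; exact hd) hsr hf
    ?_ (P.isPGroup'.map T.subtype) ?_ hU hU1 (hAT.trans hN)
  · refine ⟨⟨fun a b => ?_⟩⟩
    exact Subtype.ext (Subtype.ext (diag_comm (hT a (hAT a.2)) (hT b (hAT b.2))))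
  · intro hc
    obtain ⟨g, hg⟩ := IsCyclic.exists_ofOrder_eq_natCard (α := ↥A)
    have h1 : orderOf g ∣ Nat.card F - 1 := by
      apply orderOf_dvd_of_pow_eq_one
      exact Subtype.ext (Subtype.ext (diag_pow_card (hT g (hAT g.2))))
    have h2 : Nat.card ↥A = s ^ (Nat.card T).factorization s := by
      rw [← Sylow.card_eq_multiplicity P, hA]
      exact (Nat.card_congr ((P : Subgroup ↥T).equivMapOfInjective _ T.subtype_injective).toEquiv).symm
    rw [hg, h2] at h1
    exact hv ((hs.out.pow_dvd_iff_le_factorization (by omega)).1 h1)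

end Cfsg.Agent.H834.Mov
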