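import Mathlib
import Cfsg.Agent.H834.Mov.Tor
import Cfsg.Agent.H967.CopChev
import Cfsg.Agent.ChevalleyStructure.OrderFinal
import Cfsg.Agent.ChevalleyStructure.HMatDiagAll
import Cfsg.Agent.ChevalleyStructure.CardCombAll
import Cfsg.Agent.S1027
import Cfsg.Agent.S1035
import Cfsg.Agent.S1036
import Cfsg.Prelude.Def_LieTypeChar

/-!
# Coprime automorphisms of the exceptional Chevalley groups (helper834, task 3015, for S4761)

`row_chev` : a nontrivial coprime automorphism of prime order of `G₂(q), F₄(q), E₆(q), E₇(q), E₈(q)` moves the classes of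
two elements of different orders.
-/

set_option autoImplicit false

namespace Cfsg.Agent.H834.Mov.Chev

open Cfsg Cfsg.Lie Cfsg.Agent.ChevalleyStructure Cfsg.Agent.ChevalleyStructure.Elts Cfsg.Agent.H967.CopMat
  Cfsg.Agent.H967.CopRow Cfsg.Agent.H967.CopChev Cfsg.Agent.H596.Fld Cfsg.Agent.ChevStructure.FieldMap
open scoped MatrixGroups

section

variable {D : ChevalleyDatum} {F K : Type*} [Field F] [Field K]

theorem hWord_map (f : F →+* K) (r : ℕ) (t : F) :
    (D.hWord r t).map (fun p => (p.1, f p.2)) = D.hWord r (f t) := by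
  simp [ChevalleyDatum.hWord, ChevalleyDatum.nWord]

theorem hMat_map (f : F →+* K) (r : ℕ) (t : F) : (D.hMat F r t).map f = D.hMat K r (f t) := by
  unfold ChevalleyDatum.hMat
  rw [wordMat_map, hWord_map]

/-- field automorphisms stabilise the torus -/
theorem stab_diag (σ : F ≃+* F) : Stab (D.diagonalSubgroup F) := by
  have _ := σ
  intro σ g hg
  have h1 : (D.diagonalSubgroup F).map (Matrix.GeneralLinearGroup.map (σ : F →+* F)) ≤ D.diagonalSubgroup F := by
    unfold ChevalleyDatum.diagonalSubgroup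
    rw [MonoidHom.map_closure]
    refine Subgroup.closure_mono ?_
    rintro _ ⟨g, ⟨r, t, hr, ht, h⟩, rfl⟩
    refine ⟨r, σ t, hr, (map_ne_zero _).2 ht, ?_⟩
    show (g : Matrix D.Idx D.Idx F).map (σ : F →+* F) = _
    rw [h, hMat_map]
    rfl
  exact h1 ⟨g, hg, rfl⟩

end

/-- `(1 + q + ... + q ^ (k - 1)) ≡ k` -/
theorem not_dvd_sum {s q k : ℕ} (hq : 1 ≤ q) (h : s ∣ q - 1) (hk : ¬ s ∣ k) : ¬ s ∣ ∑ j ∈ Finset.range k, q ^ j := by
  intro h1
  apply hk
  have h2 : (q : ZMod s) = 1 := by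
    have h3 := (ZMod.natCast_eq_zero_iff (q - 1) s).2 h
    rw [Nat.cast_sub hq, Nat.cast_one, sub_eq_zero] at h3
    exact h3
  rw [← ZMod.natCast_eq_zero_iff] at h1 ⊢
  push_cast at h1
  simpa [h2] using h1

theorem dvd_prod_of {s : ℕ} (hs : s.Prime) {l : List ℕ} (h : s ∣ l.prod) : ∃ x ∈ l, s ∣ x := by
  exact (Prime.dvd_prod_iff hs.prime).1 h

theorem primes_2520 {s : ℕ} (hs : s.Prime) (h : s ∣ 2520) : s = 2 ∨ s = 3 ∨ s = 5 ∨ s = 7 := by
  have h1 : s ∣ 2 ^ 3 * 3 ^ 2 * (5 * 7) := by norm_num; exact h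
  rcases hs.dvd_mul.1 h1 with h | h
  · rcases hs.dvd_mul.1 h with h | h
    · exact Or.inl ((Nat.prime_dvd_prime_iff_eq hs Nat.prime_two).1 (hs.dvd_of_dvd_pow h))
    · exact Or.inr (Or.inl ((Nat.prime_dvd_prime_iff_eq hs Nat.prime_three).1 (hs.dvd_of_dvd_pow h)))
  · rcases hs.dvd_mul.1 h with h | h
    · exact Or.inr (Or.inr (Or.inl ((Nat.prime_dvd_prime_iff_eq hs Nat.prime_five).1 h)))
    · exact Or.inr (Or.inr (Or.inr ((Nat.prime_dvd_prime_iff_eq hs (by norm_num)).1 h)))

/-- **Chevalley groups.** -/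
theorem chev {D : ChevalleyDatum} (hD : InList D) {F : Type} [Field F] [Fintype F] (Rw : Row (D.group F)) {d : ℕ}
    (degs : List ℕ) (hd0 : d ≠ 0) (hd3 : ∀ p : ℕ, p.Prime → p ∣ d → p ≤ 3)
    (hdT : d * Nat.card (D.diagonalSubgroup F) = (Fintype.card F - 1) ^ D.rank)
    (hdG : d * Nat.card (D.group F) = Fintype.card F ^ (D.nroots / 2) * (degs.map fun k => Fintype.card F ^ k - 1).prod)
    (hlen : degs.length = D.rank) (h2l : 2 ≤ D.rank) (hN : 1 ≤ D.nroots / 2) (hdeg : ∀ k ∈ degs, k ∣ 2520)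
    (h2m : 2 ∈ degs) (h3m : ∃ k ∈ degs, 3 ∣ k) : TwoMoved ↥(D.group F) := by
  classical
  set q := Fintype.card F with hq
  have hqF : Nat.card F = q := Nat.card_eq_fintype_card
  have hq1 : 1 < q := Fintype.one_lt_card
  obtain ⟨r, hchar⟩ := CharP.exists F
  obtain ⟨f, hr, hf⟩ := FiniteField.card F r
  have hfr : Fact r.Prime := ⟨hr⟩
  have hfin : Finite (GL D.Idx F) := inferInstance
  have hTG : D.diagonalSubgroup F ≤ D.group F := diagonal_le_group hD F
  have hUG : D.posUnipotent F ≤ D.group F := posUnipotent_le_group hD F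
  set T : Subgroup ↥(D.group F) := (D.diagonalSubgroup F).subgroupOf (D.group F) with hT
  set U : Subgroup ↥(D.group F) := (D.posUnipotent F).subgroupOf (D.group F) with hU
  have hcT : Nat.card T = Nat.card (D.diagonalSubgroup F) := Nat.card_congr (Subgroup.subgroupOfEquivOfLe hTG).toEquiv
  have hcU : Nat.card U = q ^ (D.nroots / 2) := by
    rw [Nat.card_congr (Subgroup.subgroupOfEquivOfLe hUG).toEquiv, S1027.result D hD]
  -- the index of the torus
  set Y := (degs.map fun k => ∑ j ∈ Finset.range k, q ^ j).prod with hY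
  have hidx : T.index = q ^ (D.nroots / 2) * Y := by
    have h1 := OrderFinal.pow_mul_prod (q := q) hq1.le degs
    rw [hlen, ← hdT] at h1
    rw [← h1] at hdG
    have h2 := T.card_mul_index
    have h3 : d * (Nat.card T * T.index) = d * (Nat.card T * (q ^ (D.nroots / 2) * Y)) := by
      rw [h2, hdG, hcT, hY]; ring
    exact Nat.eq_of_mul_eq_mul_left Nat.card_pos (Nat.eq_of_mul_eq_mul_left (Nat.pos_of_ne_zero hd0) h3)
  have hidG : T.index ∣ Nat.card ↥(D.group F) := T.index_dvd_card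
  have hYG : Y ∣ Nat.card ↥(D.group F) := (Dvd.intro_left _ hidx.symm).trans hidG
  have hfac : ∀ k ∈ degs, (∑ j ∈ Finset.range k, q ^ j) ∣ Y := fun k hk =>
    List.dvd_prod (List.mem_map.2 ⟨k, hk, rfl⟩)
  have hqG : q ∣ Nat.card ↥(D.group F) :=
    ((dvd_pow_self q (by omega)).trans (Dvd.intro _ hidx.symm)).trans hidG
  have hq1G : q + 1 ∣ Nat.card ↥(D.group F) := by
    have h1 := (hfac 2 h2m).trans hYG
    rwa [Finset.sum_range_succ, Finset.sum_range_one, pow_zero, pow_one, add_comm] at h1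
  have h2G : 2 ∣ Nat.card ↥(D.group F) := by
    rcases Nat.even_or_odd q with h | h
    · exact h.two_dvd.trans hqG
    · exact (h.add_one).two_dvd.trans hq1G
  have h3G : 3 ∣ Nat.card ↥(D.group F) := by
    rcases (show q % 3 = 0 ∨ q % 3 = 1 ∨ q % 3 = 2 by omega) with h | h | h
    · exact (Nat.dvd_of_mod_eq_zero h).trans hqG
    · obtain ⟨k, hk, h3k⟩ := h3m
      refine Dvd.dvd.trans ?_ ((hfac k hk).trans hYG)
      have h2 : (q : ZMod 3) = 1 := by
        have h3 := (ZMod.natCast_eq_zero_iff (q - 1) 3).2 (Nat.dvd_of_mod_eq_zero (by omega))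
        rw [Nat.cast_sub hq1.le, Nat.cast_one, sub_eq_zero] at h3
        exact h3
      rw [← ZMod.natCast_eq_zero_iff]
      push_cast
      have h4 := (ZMod.natCast_eq_zero_iff k 3).2 h3k
      simpa [h2] using h4
    · exact (Nat.dvd_of_mod_eq_zero (by omega)).trans hq1G
  -- the automorphism
  intro α hα hd
  have hp2 : orderOf α ≠ 2 := fun h => hd (h ▸ h2G)
  have hp3 : orderOf α ≠ 3 := fun h => hd (h ▸ h3G)
  have hp5 : 5 ≤ orderOf α := by
    have h1 := hα.two_le
    by_contra hlt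
    have h4 : orderOf α = 4 := by omega
    rw [h4] at hα
    exact absurd hα (by norm_num)
  obtain ⟨e, σ, he, ho⟩ := Rw.exists_equiv_one (MulEquiv.refl _) α (hα.coprime_iff_not_dvd.2 hd)
  refine Moved.of_equiv e he ?_
  set q₀ := Nat.card ↥(Fx σ) with hq₀
  have hq01 : 1 < q₀ := Finite.one_lt_card
  have hqq : q = q₀ ^ orderOf α := by rw [← hqF, card_Fx σ, ho]
  have hn1 : ¬ orderOf α ∣ q₀ ^ orderOf α - 1 := by
    rw [← hqq]
    intro h
    have h1 : orderOf α ∣ d * Nat.card (D.diagonalSubgroup F) := by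
      rw [hdT]; exact h.trans (dvd_pow_self _ (by omega))
    rcases hα.dvd_mul.1 h1 with h2 | h2
    · have := hd3 _ hα h2; omega
    · exact hd (h2.trans (hcT ▸ Subgroup.card_subgroup_dvd_card T))
  have hn2 : ¬ orderOf α ∣ q₀ ^ orderOf α + 1 := by
    rw [← hqq]
    exact fun h => hd (h.trans hq1G)
  obtain ⟨s, -, hs, -, -, hsq, -, hsi, -, hs0, -⟩ := exists_primes hα hp2 hq01 hn1 hn2
  have hfs : Fact s.Prime := ⟨hs⟩
  rw [← hqq] at hsq
  have hs1 : ¬ s ∣ q₀ - 1 := by
    intro h
    have := hsi 1 (by rwa [pow_one])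
    exact hα.one_lt.ne' (Nat.dvd_one.1 this)
  have hs2520 : ¬ s ∣ 2520 := by
    intro h
    have h1 : orderOf α ∣ s - 1 := by
      apply hsi
      have hcop : q₀.Coprime s := (hs.coprime_iff_not_dvd.2 hs0).symm
      have h1 := Nat.ModEq.pow_totient hcop
      rw [Nat.totient_prime hs] at h1
      exact (Nat.modEq_iff_dvd' (Nat.one_le_pow _ _ (by omega))).1 h1.symm
    rcases primes_2520 hs h with rfl | rfl | rfl | rfl
    · have := Nat.le_of_dvd (by norm_num) h1; omega
    · have := Nat.le_of_dvd (by norm_num) h1; omega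
    · have := Nat.le_of_dvd (by norm_num) h1; omega
    · have h2 := Nat.le_of_dvd (by norm_num) h1
      have h3 : orderOf α = 5 ∨ orderOf α = 6 := by omega
      rcases h3 with h3 | h3
      · rw [h3] at h1; exact absurd h1 (by norm_num)
      · rw [h3] at hα; exact absurd hα (by norm_num)
  have hsd : ¬ s ∣ d := by
    intro h
    have h1 := hd3 s hs h
    have h2 := hs.two_le
    have h3 : s = 2 ∨ s = 3 := by omega
    rcases h3 with rfl | rfl
    · exact hs2520 (by norm_num)
    · exact hs2520 (by norm_num)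
  have hsq' : ¬ s ∣ q := by
    intro h
    have h1 := (Nat.dvd_sub_iff_right hq1.le h).1 hsq
    exact hs.one_lt.ne' (Nat.dvd_one.1 h1)
  have hsr : s ≠ r := by
    rintro rfl
    exact hsq' (by rw [hq, hf]; exact dvd_pow_self _ f.ne_zero)
  refine moved_fieldAut (s := s) (r := r) (T := T) (U := U) Rw.stab (orderOf_injective _ Rw.inj σ) (by rw [ho]; exact hα)
    (by rw [ho]; exact hd) hs1 hsr ?_ ?_ ?_ ?_ ?_ ?_ ?_
  · intro x hx i j hij
    exact (TriAbstract.mem_diagSub.1 (HMatDiagAll.diagonalSubgroup_le_diagSub hD (Subgroup.mem_subgroupOf.1 hx))) i j hij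
  · intro x hx
    exact Subgroup.mem_subgroupOf.2 (stab_diag σ σ _ (Subgroup.mem_subgroupOf.1 hx))
  · rw [hidx]
    intro h
    rcases hs.dvd_mul.1 h with h | h
    · exact hsq' (hs.dvd_of_dvd_pow h)
    · obtain ⟨x, hx, hsx⟩ := dvd_prod_of hs h
      obtain ⟨k, hk, rfl⟩ := List.mem_map.1 hx
      exact not_dvd_sum hq1.le hsq (fun h => hs2520 (h.trans (hdeg k hk))) hsx
  · have h1 : (d * Nat.card (D.diagonalSubgroup F)).factorization s = ((q - 1) ^ D.rank).factorization s :=
      congrArg (fun n : ℕ => n.factorization s) hdT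
    rw [Nat.factorization_mul hd0 Nat.card_pos.ne', Nat.factorization_pow, Finsupp.add_apply, Finsupp.smul_apply,
      Nat.factorization_eq_zero_of_not_dvd hsd, zero_add, smul_eq_mul] at h1
    rw [hcT, h1, hqF]
    have h2 : 1 ≤ (q - 1).factorization s := (hs.dvd_iff_one_le_factorization (by omega)).1 hsq
    nlinarith
  · refine IsPGroup.of_card (n := f * (D.nroots / 2)) ?_
    rw [hcU, hq, hf, pow_mul]
  · intro h
    rw [h, Subgroup.card_bot] at hcU
    have : 1 < q ^ (D.nroots / 2) := Nat.one_lt_pow (by omega) hq1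
    omega
  · intro t ht
    have h1 := (S1036.result (F := F) D hD).1 (Subgroup.mem_subgroupOf.1 ht)
    rw [Subgroup.mem_normalizer_iff] at h1 ⊢
    intro u
    exact h1 u

/-- **Task 3015.** -/
theorem row_chev {r : ℕ} {G : Type*} [Group G] [Finite G] [IsSimpleGroup G] (_hc : ∃ a b : G, a * b ≠ b * a)
    (hG : IsExceptionalChevChar r G) : TwoMoved G := by
  obtain ⟨F, _, _, _, h | h | h | h | h⟩ := hG
  · obtain ⟨h3, ⟨e⟩⟩ := h
    have : IsSimpleGroup ↥(chevG2.group F) := e.symm.isSimpleGroup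
    refine TwoMoved.congr e (chev (D := chevG2) (by simp) (row_g2 h3) (d := 1) [2, 6] one_ne_zero ?_ ?_ ?_ rfl (by decide)
      (by decide) (by simp) (by simp) (by simp))
    · intro p hp h; exact absurd (Nat.dvd_one.1 h) hp.one_lt.ne'
    · exact S1035.result (F := F) rfl (chevG2, 1) (by simp)
    · exact OrderFinal.order_formula rfl chevG2 1 [2, 6] (by simp) (by simp) (CardCombAll.comb_of_mem (by simp))
        (by simp) rfl
  · obtain ⟨e⟩ := h
    have : IsSimpleGroup ↥(chevF4.group F) := e.symm.isSimpleGroup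
    refine TwoMoved.congr e (chev (D := chevF4) (by simp) row_f4 (d := 1) [2, 6, 8, 12] one_ne_zero ?_ ?_ ?_ rfl (by decide)
      (by decide) (by simp) (by simp) (by simp))
    · intro p hp h; exact absurd (Nat.dvd_one.1 h) hp.one_lt.ne'
    · exact S1035.result (F := F) rfl (chevF4, 1) (by simp)
    · exact OrderFinal.order_formula rfl chevF4 1 [2, 6, 8, 12] (by simp) (by simp) (CardCombAll.comb_of_mem (by simp))
        (by simp) rfl
  · obtain ⟨e⟩ := h
    have : IsSimpleGroup ↥(chevE6.group F) := e.symm.isSimpleGroup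
    refine TwoMoved.congr e (chev (D := chevE6) (by simp) row_e6 (d := Nat.gcd 3 (Fintype.card F - 1))
      [2, 5, 6, 8, 9, 12] (Nat.gcd_pos_of_pos_left _ (by norm_num)).ne' ?_ ?_ ?_ rfl (by decide)
      (by decide) (by simp) (by simp) (by simp))
    · intro p hp h
      exact Nat.le_of_dvd (by norm_num) (h.trans (Nat.gcd_dvd_left _ _))
    · exact S1035.result (F := F) rfl (chevE6, Nat.gcd 3 (Fintype.card F - 1)) (by simp)
    · exact OrderFinal.order_formula rfl chevE6 (Nat.gcd 3 (Fintype.card F - 1)) [2, 5, 6, 8, 9, 12] (by simp) (by simp)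
        (CardCombAll.comb_of_mem (by simp)) (by simp) rfl
  · obtain ⟨e⟩ := h
    have : IsSimpleGroup ↥(chevE7.group F) := e.symm.isSimpleGroup
    refine TwoMoved.congr e (chev (D := chevE7) (by simp) row_e7 (d := Nat.gcd 2 (Fintype.card F - 1))
      [2, 6, 8, 10, 12, 14, 18] (Nat.gcd_pos_of_pos_left _ (by norm_num)).ne' ?_ ?_ ?_ rfl (by decide)
      (by decide) (by simp) (by simp) (by simp))
    · intro p hp h
      exact (Nat.le_of_dvd (by norm_num) (h.trans (Nat.gcd_dvd_left _ _))).trans (by norm_num)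
    · exact S1035.result (F := F) rfl (chevE7, Nat.gcd 2 (Fintype.card F - 1)) (by simp)
    · exact OrderFinal.order_formula rfl chevE7 (Nat.gcd 2 (Fintype.card F - 1)) [2, 6, 8, 10, 12, 14, 18] (by simp)
        (by simp) (CardCombAll.comb_of_mem (by simp)) (by simp) rfl
  · obtain ⟨e⟩ := h
    have : IsSimpleGroup ↥(chevE8.group F) := e.symm.isSimpleGroup
    refine TwoMoved.congr e (chev (D := chevE8) (by simp) row_e8 (d := 1) [2, 8, 12, 14, 18, 20, 24, 30] one_ne_zero ?_ ?_ ?_
      rfl (by decide) (by decide) (by simp) (by simp) (by simp))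
    · intro p hp h; exact absurd (Nat.dvd_one.1 h) hp.one_lt.ne'
    · exact S1035.result (F := F) rfl (chevE8, 1) (by simp)
    · exact OrderFinal.order_formula rfl chevE8 1 [2, 8, 12, 14, 18, 20, 24, 30] (by simp) (by simp)
        (CardCombAll.comb_of_mem (by simp)) (by simp) rfl

end Cfsg.Agent.H834.Mov.Chev
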